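import Cfsg.Agent.ChevGroup.Exchange
import Cfsg.Agent.ChevGroup.Shape

/-!
Fixed points of an automorphism acting on the parameters of the root elements: they are generated by
the root elements with fixed parameters, provided this holds in the torus (helper60).
-/

set_option autoImplicit false

namespace Cfsg.Agent.ChevFixed

open Cfsg.Agent.ChevGroup

variable {Φ I G F ι : Type*} [Group G] [Field F] [Fintype ι] [DecidableEq ι] {S : RootIdx Φ I}
  {R : RootRel G F S} (M : Shape R ι) (σ : F →+* F) (τ : G →* G)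

/-- The subgroup generated by root elements with fixed parameters. -/
def fixGen (R : RootRel G F S) (σ : F →+* F) : Subgroup G :=
  Subgroup.closure {g | ∃ r t, σ t = t ∧ g = R.x r t}

/-- The root elements with fixed parameters for the positive roots inverted by a word. -/
def fixU (R : RootRel G F S) (σ : F →+* F) (w : List I) : Subgroup G :=
  Subgroup.closure {g | ∃ r t, σ t = t ∧ S.pos r ∧ ¬ S.pos (S.actw w.reverse r) ∧ g = R.x r t}

theorem fixU_le_fixGen (w : List I) : fixU R σ w ≤ fixGen R σ :=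
  Subgroup.closure_mono fun _ ⟨r, t, h, _, _, e⟩ => ⟨r, t, h, e⟩

theorem fixU_le_U (w : List I) : fixU R σ w ≤ R.U :=
  Subgroup.closure_mono fun _ ⟨r, t, _, h, _, e⟩ => ⟨r, t, h, e⟩

theorem nr_one_mem_fixGen (r : Φ) : R.nr r 1 ∈ fixGen R σ :=
  mul_mem (mul_mem (Subgroup.subset_closure ⟨r, 1, map_one σ, rfl⟩)
    (Subgroup.subset_closure ⟨S.neg r, -1⁻¹, by simp, rfl⟩))
    (Subgroup.subset_closure ⟨r, 1, map_one σ, rfl⟩)

theorem nw_mem_fixGen (w : List I) : R.nw w ∈ fixGen R σ :=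
  Subgroup.list_prod_mem _ fun x hx => by
    obtain ⟨k, -, rfl⟩ := List.mem_map.1 hx
    exact nr_one_mem_fixGen σ _

variable {σ τ} (hτ : ∀ r t, τ (R.x r t) = R.x r (σ t))

include hτ

theorem map_fixGen {g : G} (hg : g ∈ fixGen R σ) : τ g = g := by
  have h : fixGen R σ ≤ τ.eqLocus (MonoidHom.id G) := (Subgroup.closure_le _).2 <| by
    rintro _ ⟨r, t, ht, rfl⟩
    exact (hτ r t).trans (by rw [ht]; rfl)
  exact h hg

theorem map_U {u : G} (hu : u ∈ R.U) : τ u ∈ R.U := by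
  have h : R.U ≤ R.U.comap τ := (Subgroup.closure_le _).2 <| by
    rintro _ ⟨r, t, hr, rfl⟩
    show τ (R.x r t) ∈ R.U
    rw [hτ]
    exact R.x_mem_U hr _
  exact h hu

theorem map_H {h : G} (hh : h ∈ R.H) : τ h ∈ R.H := by
  have h' : R.H ≤ R.H.comap τ := (Subgroup.closure_le _).2 <| by
    rintro _ ⟨r, c, hc, rfl⟩
    show τ (R.hr r c) ∈ R.H
    simp only [RootRel.hr, hOf, nOf, map_mul, hτ, map_neg, map_inv₀, map_one]
    exact R.hr_mem_H (r := r) ((map_ne_zero σ).2 hc)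
  exact h' hh

theorem map_B {b : G} (hb : b ∈ R.B) : τ b ∈ R.B := by
  obtain ⟨u, hu, h, hh, rfl⟩ := R.mem_B_iff.1 hb
  rw [map_mul]
  exact mul_mem (R.U_le_B (map_U hτ hu)) (R.H_le_B (map_H hτ hh))

theorem map_nw (w : List I) : τ (R.nw w) = R.nw w := map_fixGen hτ (nw_mem_fixGen σ w)

include M in
/-- Fixed cosets in a cell have fixed representatives. -/
theorem exists_fixed_rep (hT : ∀ r t, S.pos r → M.Pres S.pos (R.x r t)) :
    ∀ (w : List I), S.Red w → ∀ g : G, (g : G ⧸ R.B) ∈ cell R.B R.B (R.nw w) →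
      ((τ g : G) : G ⧸ R.B) = (g : G ⧸ R.B) →
      ∃ u₀ ∈ fixU R σ w, (g : G ⧸ R.B) = ((u₀ * R.nw w : G) : G ⧸ R.B) := by
  intro w
  induction w with
  | nil =>
    intro _ g hg _
    rw [R.nw_nil, cell_one le_rfl (one_mem _), Set.mem_singleton_iff] at hg
    exact ⟨1, one_mem _, by rw [R.nw_nil, one_mul, hg]⟩
  | cons i u ih =>
    intro hred g hg hfix
    have hpos := hred.1
    have hP : ∀ p ∈ R.B, M.Pres S.pos p := fun p hp =>
      M.pres_par (J := []) hT (fun j hj => by simp at hj) (R.B_le_par _ hp)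
    have hne : cell R.B R.B (R.nw u) ≠ cell R.B R.B (R.nw (i :: u)) := by
      intro h
      obtain ⟨s, hs, he⟩ := M.image_of_cell_eq hP h.symm _ hpos
      rw [S.actw_cons, S.actw_reverse, S.refl_simple] at he
      have h2 : s = S.neg (S.actw u.reverse (S.simple i)) := by
        rw [← S.actw_neg, he]
        exact (S.actw_reverse' u s).symm
      exact S.not_pos_neg _ hpos (h2 ▸ hs)
    have hbij := cell_bijective (R.x (S.simple i)) (fun t => R.x_mem_B (S.simple_pos i) t)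
      (fun b hb => R.B_mul_n i hb) (fun s t hst => R.x_n_sep i hst) (R.up_of_pos hpos) hne
    obtain ⟨⟨t, c⟩, ⟨-, hc⟩, he⟩ := hbij.surjOn hg
    obtain ⟨d, rfl⟩ := QuotientGroup.mk_surjective c
    change ((R.x (S.simple i) t * R.n i * d : G) : G ⧸ R.B) = g at he
    have hd' : ((τ d : G) : G ⧸ R.B) ∈ cell R.B R.B (R.nw u) := by
      obtain ⟨b, hb, hbd⟩ := mem_cell.1 hc
      refine mem_cell.2 ⟨τ b, map_B hτ hb, QuotientGroup.eq.2 ?_⟩
      have := map_B hτ (QuotientGroup.eq.1 hbd)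
      rwa [map_mul, map_inv, map_mul, map_nw hτ] at this
    have hn : τ (R.n i) = R.n i := map_fixGen hτ (nr_one_mem_fixGen σ _)
    have he' : ((R.x (S.simple i) (σ t) * R.n i * τ d : G) : G ⧸ R.B) = g := by
      rw [← hfix]
      have h1 := map_B hτ (QuotientGroup.eq.1 he)
      rw [map_mul, map_inv, map_mul, map_mul, hτ, hn] at h1
      exact QuotientGroup.eq.2 h1
    have hinj := hbij.injOn (show (σ t, ((τ d : G) : G ⧸ R.B)) ∈ _ from ⟨trivial, hd'⟩)
      (show (t, (d : G ⧸ R.B)) ∈ _ from ⟨trivial, hc⟩) (he'.trans he.symm)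
    obtain ⟨ht, hd⟩ := Prod.mk.injEq .. ▸ hinj
    obtain ⟨v, hv, hdv⟩ := ih hred.2 d hc hd
    have hrev : ∀ r, S.actw (i :: u).reverse r = S.actw u.reverse (S.refl i r) := fun r => by
      rw [List.reverse_cons, S.actw_append, S.actw_cons, S.actw_nil]
    have hnv : R.n i * v * (R.n i)⁻¹ ∈ fixU R σ (i :: u) := by
      have h : fixU R σ u ≤ (fixU R σ (i :: u)).comap (MulAut.conj (R.n i)).toMonoidHom :=
        (Subgroup.closure_le _).2 <| by
          rintro _ ⟨r, s, hs, hr, hr', rfl⟩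
          show R.n i * R.x r s * (R.n i)⁻¹ ∈ fixU R σ (i :: u)
          rw [R.n_conj']
          have hri : r ≠ S.simple i := fun e => hr' (e ▸ hpos)
          refine Subgroup.subset_closure ⟨_, _, ?_, S.refl_pos i r hr hri, ?_, rfl⟩
          · rw [map_mul, hs]
            congr 1
            rcases mul_self_eq_one_iff.1 (R.sgn_sq i r) with e | e <;> simp [e]
          · rw [hrev, S.refl_refl]; exact hr'
      exact h hv
    refine ⟨R.x (S.simple i) t * (R.n i * v * (R.n i)⁻¹),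
      mul_mem (Subgroup.subset_closure ⟨_, t, ht, S.simple_pos i, ?_, rfl⟩) hnv, ?_⟩
    · rw [hrev, S.refl_simple, S.actw_neg]
      exact S.not_pos_neg _ hpos
    · rw [← he]
      refine QuotientGroup.eq.2 ?_
      have := QuotientGroup.eq.1 hdv
      rw [R.nw_cons]
      simpa [mul_assoc] using this

include M in
/-- The fixed points of `τ` in `U`. -/
theorem U_fixed (hT : ∀ r t, S.pos r → M.Pres S.pos (R.x r t)) {w : List I} (hred : S.Red w)
    (hneg : ∀ r, S.pos r → S.pos (S.neg (S.actw w.reverse r))) {u : G} (hu : u ∈ R.U)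
    (hfix : τ u = u) : u ∈ fixGen R σ := by
  have hlow : ∀ u ∈ R.U, Uni (fun a => -M.key a) (M.mat ((R.nw w)⁻¹ * u * R.nw w)) := by
    intro u hu
    induction hu using Subgroup.closure_induction'' with
    | mem g hg =>
      obtain ⟨r, t, hr, rfl⟩ := hg
      obtain ⟨e, he⟩ := R.nw_inv_conj_x w r t
      rw [he, ← S.neg_neg (S.actw w.reverse r)]
      exact M.uni_neg _ _ (hneg r hr)
    | inv_mem g hg =>
      obtain ⟨r, t, hr, rfl⟩ := hg
      obtain ⟨e, he⟩ := R.nw_inv_conj_x w r (-t)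
      rw [← R.x_neg, he, ← S.neg_neg (S.actw w.reverse r)]
      exact M.uni_neg _ _ (hneg r hr)
    | one => simp only [mul_one, inv_mul_cancel]; rw [M.mat_one]; intro a b _; simp [Matrix.one_apply]
    | mul g h _ _ hg hh =>
      have e : (R.nw w)⁻¹ * (g * h) * R.nw w =
          ((R.nw w)⁻¹ * g * R.nw w) * ((R.nw w)⁻¹ * h * R.nw w) := by group
      rw [e, M.mat_mul]; exact hg.mul hh
  obtain ⟨u₀, hu₀, he⟩ := exists_fixed_rep M hτ hT w hred (u * R.nw w)
    (mem_cell.2 ⟨u, R.U_le_B hu, rfl⟩) (by rw [map_mul, hfix, map_nw hτ])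
  have h := QuotientGroup.eq.1 he
  have e : (u * R.nw w)⁻¹ * (u₀ * R.nw w) = (R.nw w)⁻¹ * (u⁻¹ * u₀) * R.nw w := by group
  rw [e] at h
  have h1 := M.tri_of_B h
  have h2 := hlow _ (mul_mem (inv_mem hu) (fixU_le_U σ w hu₀))
  have h3 : (R.nw w)⁻¹ * (u⁻¹ * u₀) * R.nw w = 1 := by
    refine M.eq_one ?_
    ext a b
    rcases eq_or_ne a b with rfl | hab
    · rw [h2 a a le_rfl]; simp
    · rcases le_total (M.key a) (M.key b) with hk | hk
      · rw [h1.1 a b hab hk]; simp [hab]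
      · rw [h2 a b (neg_le_neg hk)]; simp [hab]
  have h4 : u⁻¹ * u₀ = 1 := by
    have := congrArg (fun g => R.nw w * g * (R.nw w)⁻¹) h3
    simpa [mul_assoc] using this
  rw [inv_mul_eq_one.1 h4]
  exact fixU_le_fixGen σ w hu₀

include M in
/-- The fixed points of `τ`. -/
theorem mem_fixGen_of_fixed (hT : ∀ r t, S.pos r → M.Pres S.pos (R.x r t)) {w : List I}
    (hred : S.Red w) (hneg : ∀ r, S.pos r → S.pos (S.neg (S.actw w.reverse r)))
    (htop : R.B ⊔ Subgroup.closure (Set.range R.n) = ⊤)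
    (hH : ∀ h ∈ R.H, τ h = h → h ∈ fixGen R σ) {g : G} (hfix : τ g = g) : g ∈ fixGen R σ := by
  obtain ⟨b, hb, v, hv, b', hb', rfl⟩ := R.exists_bruhat (g := g) (htop ▸ trivial)
  obtain ⟨u₀, hu₀, he⟩ := exists_fixed_rep M hτ hT v hv (b * R.nw v * b')
    (mem_cell.2 ⟨b, hb, QuotientGroup.eq.2 (by simpa [mul_assoc] using hb')⟩) (by rw [hfix])
  set g₀ := u₀ * R.nw v with hg₀
  have hg₀m : g₀ ∈ fixGen R σ := mul_mem (fixU_le_fixGen σ v hu₀) (nw_mem_fixGen σ v)
  obtain ⟨u, hu, h, hh, huh⟩ := R.mem_B_iff.1 (QuotientGroup.eq.1 he.symm)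
  have hfb : τ (g₀⁻¹ * (b * R.nw v * b')) = g₀⁻¹ * (b * R.nw v * b') := by
    rw [map_mul, map_inv, map_fixGen hτ hg₀m, hfix]
  rw [← huh, map_mul] at hfb
  have e1 : u⁻¹ * τ u = h * (τ h)⁻¹ := by
    rw [eq_mul_inv_iff_mul_eq, mul_assoc, hfb, inv_mul_cancel_left]
  have e2 := M.U_inter_H (mul_mem (inv_mem hu) (map_U hτ hu)) (e1 ▸ mul_mem hh (inv_mem (map_H hτ hh)))
  have e3 := (inv_mul_eq_one.1 e2).symm
  rw [e3] at hfb
  have e4 : τ h = h := mul_left_cancel hfb
  have hb0 : b * R.nw v * b' = g₀ * (u * h) := by rw [huh, mul_inv_cancel_left]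
  rw [hb0]
  exact mul_mem hg₀m (mul_mem (U_fixed M hτ hT hred hneg hu e3) (hH h hh e4))

end Cfsg.Agent.ChevFixed
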