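import Cfsg.Prelude.Def_ChevAutomorphisms
import Cfsg.Agent.ChevFixed.Bruhat
import Cfsg.Agent.ChevGroup.Mat.Chain
import Cfsg.Agent.ChevGroup.Mat.Torus
import Cfsg.Agent.AutPSL.FiniteField

/-!
The fixed points of a field automorphism of a Chevalley group whose torus is split (helper60).
-/

set_option autoImplicit false

namespace Cfsg.Agent.ChevFixed

open Cfsg.Lie Cfsg.Agent.ChevGroup

universe u v

variable {D : ChevalleyDatum}

theorem x_map {F : Type u} {L : Type v} [Field F] [Field L] (f : F →+* L) (r : ℕ) (t : F) :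
    (D.x F r t).map f = D.x L r (f t) := by
  rw [ChevalleyDatum.x, ChevalleyDatum.x]
  split
  · ext a b
    simp only [Matrix.map_apply, ChevalleyDatum.xMat, Matrix.of_apply]
    rcases b with j | j <;> rcases a with i | i
    all_goals dsimp only
    all_goals try split_ifs
    all_goals simp only [map_one, map_zero, map_neg, map_mul, map_pow, map_intCast, map_add,
      map_list_sum, List.map_map, Function.comp_def]
  · rw [Matrix.map_one _ (map_zero f) (map_one f)]

theorem red_of_suffix {Φ I : Type*} (S : RootIdx Φ I) : ∀ w : List I,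
    (∀ v i u, w = v ++ i :: u → S.pos (S.actw u.reverse (S.simple i))) → S.Red w
  | [], _ => trivial
  | i :: u, h => ⟨h [] i u rfl, red_of_suffix S u fun v j u' e => h (i :: v) j u' (by rw [e]; rfl)⟩

variable (T : Model D) {F : Type u} [Field F] (K : Rels D F)

/-- The map of Chevalley groups along a ring homomorphism. -/
def mapGroup {F₀ : Type v} [Field F₀] (i : F₀ →+* F) : ↥(D.group F₀) →* ↥(D.group F) :=
  ((Matrix.GeneralLinearGroup.map i).comp (D.group F₀).subtype).codRestrict _ fun g => by
    have h : D.group F₀ ≤ (D.group F).comap (Matrix.GeneralLinearGroup.map i) := by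
      refine (Subgroup.closure_le _).2 ?_
      rintro y ⟨r, t, hy⟩
      refine Subgroup.subset_closure ⟨r, i t, ?_⟩
      have hx := x_map (D := D) i r.val t
      rw [ChevalleyDatum.x, ChevalleyDatum.x, dif_pos r.isLt, dif_pos r.isLt, ← hy] at hx
      exact hx
    exact h g.2

theorem mat_mapGroup {F₀ : Type v} [Field F₀] (i : F₀ →+* F) (g : ↥(D.group F₀)) :
    Model.mat (mapGroup i g) = ((g : GL D.Idx F₀) : Matrix D.Idx D.Idx F₀).map i := rfl

theorem mapGroup_x (σ : F →+* F) (r : Fin T.tab.n) (t : F) :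
    mapGroup σ ((T.rel K).x r t) = (T.rel K).x r (σ t) :=
  Model.mat_inj (x_map σ r.val t)

theorem mapGroup_injective {F₀ : Type v} [Field F₀] (i : F₀ →+* F) :
    Function.Injective (mapGroup (D := D) i) := fun g h e => by
  refine Subtype.ext (Units.ext (Matrix.ext fun a b => i.injective ?_))
  exact congrFun (congrFun (congrArg Model.mat e) a) b

theorem torusHom_map (σ : F →+* F) (c : Fin D.rank → Fˣ) :
    Matrix.GeneralLinearGroup.map σ (Model.torusHom D c) =
      Model.torusHom D fun i => Units.map (σ : F →* F) (c i) := by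
  apply Units.ext
  show (Matrix.diagonal _).map σ = Matrix.diagonal _
  rw [Matrix.diagonal_map (map_zero σ)]
  congr 1
  funext a
  rcases a with i | s
  · exact map_one σ
  · show σ (Model.chi D c s.val : F) = _
    rw [show σ (Model.chi D c s.val : F) = ((Units.map (σ : F →* F) (Model.chi D c s.val) : Fˣ) : F) from rfl]
    simp only [Model.chi, map_prod, map_zpow]
    rfl

include T K in
theorem H_fixed (hA : TorusFacts D) (hker : Function.Injective (Model.torusHom (F := F) D)) (σ : F →+* F)
    {h : ↥(D.group F)} (hh : h ∈ (T.rel K).H) (hfix : mapGroup σ h = h) :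
    h ∈ fixGen (T.rel K) σ := by
  have hd : (h : GL D.Idx F) ∈ (Model.torusHom (F := F) D).range := by
    rw [← T.diagonalSubgroup_eq hA K, ← T.H_map K]
    exact ⟨h, hh, rfl⟩
  obtain ⟨c, hc⟩ := hd
  have hfc : (fun i => Units.map (σ : F →* F) (c i)) = c := by
    refine hker ?_
    rw [← torusHom_map, hc]
    exact congrArg Subtype.val hfix
  suffices hs : c ∈ ((fixGen (T.rel K) σ).map (D.group F).subtype).comap (Model.torusHom D) by
    obtain ⟨g, hg, he⟩ := hs
    rw [hc] at he
    obtain rfl : g = h := Subtype.ext he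
    exact hg
  rw [← Finset.univ_prod_mulSingle c]
  refine Subgroup.prod_mem _ fun i _ => Subgroup.mem_comap.2 ?_
  let i' : Fin T.tab.l := ⟨i.val, T.l_eq.symm ▸ i.isLt⟩
  refine ⟨hOf T.S.neg (T.xG K) (T.S.simple i') (c i : F), ?_, Units.ext ?_⟩
  · have hσ : σ (c i : F) = c i := congrArg Units.val (congrFun hfc i)
    have hmem : ∀ a b, σ b = b → T.xG K a b ∈ fixGen (T.rel K) σ := fun a b hb =>
      Subgroup.subset_closure ⟨a, b, hb, rfl⟩
    simp only [hOf, nOf]
    refine mul_mem (mul_mem (mul_mem (hmem _ _ hσ) (hmem _ _ ?_)) (hmem _ _ hσ))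
      (mul_mem (mul_mem (hmem _ _ ?_) (hmem _ _ ?_)) (hmem _ _ ?_)) <;> simp [hσ]
  · show Model.mat (hOf T.S.neg (T.xG K) (T.S.simple i') (c i : F)) = _
    rw [T.mat_hOf, T.simple_eq, show i'.val = i.val from rfl,
      K.h_diag _ (by rw [← show (T.S.simple i').val = D.simple i.val from T.simple_eq i']; exact T.lt _) _
        (Units.ne_zero _)]
    simp only [Model.torusHom, MonoidHom.coe_mk, OneHom.coe_mk]
    congr 1; funext a
    rcases a with j | s
    · rfl
    · simp only [Sum.elim_inr, Model.chi]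
      rw [Finset.prod_eq_single i (fun j _ hj => by rw [Pi.mulSingle_eq_of_ne hj]; simp) (by simp),
        Pi.mulSingle_eq_same, Units.val_zpow_eq_zpow_val]
      congr 1
      exact hA.pairing_simple _ _ i.isLt

include T K in
theorem torus_injective [Fintype F] (hA : TorusFacts D)
    (hcard : Nat.card ↥(D.diagonalSubgroup F) = (Fintype.card F - 1) ^ D.rank) :
    Function.Injective (Model.torusHom (F := F) D) := by
  classical
  refine (MonoidHom.ker_eq_bot_iff _).1 (Subgroup.eq_bot_of_card_eq _ ?_)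
  have h := Subgroup.card_mul_index (Model.torusHom (F := F) D).ker
  rw [Subgroup.index_ker, ← T.diagonalSubgroup_eq hA K, hcard, Nat.card_pi, Finset.prod_const,
    Finset.card_univ, Fintype.card_fin, Nat.card_units, Nat.card_eq_fintype_card (α := F)] at h
  have h2 : 0 < (Fintype.card F - 1) ^ D.rank :=
    pow_pos (Nat.sub_pos_of_lt Fintype.one_lt_card) _
  exact Nat.eq_of_mul_eq_mul_right h2 (h.trans (one_mul _).symm)

include T K in
/-- Centralisers of field automorphisms of prime order. -/
theorem field_centralizer [Fintype F] (hA : TorusFacts D) (hn : 0 < D.nroots)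
    {wit : List (List (Fin T.tab.l) × Fin T.tab.l)} (hwit : T.witB wit = true)
    {w : List (Fin T.tab.l)} (hw : T.longestB w = true)
    (hpos : Mat.spanB D (T.posList.map Fin.val) = true)
    (hker : Function.Injective (Model.torusHom (F := F) D))
    (φ : MulAut ↥(D.group F)) (hφ : D.IsFieldAut φ) (r : ℕ) (hr : r.Prime) (ho : orderOf φ = r) :
    ∃ (F₀ : Type) (_ : Field F₀) (_ : Fintype F₀), Fintype.card F = Fintype.card F₀ ^ r ∧
      Nonempty (↥((MulEquiv.toMonoidHom φ).eqLocus (MonoidHom.id ↥(D.group F))) ≃* ↥(D.group F₀)) := by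
  classical
  obtain ⟨σ, hσ⟩ := hφ
  let τ : ↥(D.group F) →* ↥(D.group F) := mapGroup σ.toRingHom
  have hτ : ∀ a b, τ ((T.rel K).x a b) = (T.rel K).x a (σ b) := mapGroup_x T K σ.toRingHom
  have hφx : ∀ a b, φ ((T.rel K).x a b) = (T.rel K).x a (σ b) := fun a b =>
    Model.mat_inj (hσ _ a.val b (T.lt a) rfl)
  have hφτ : ∀ g, φ g = τ g := by
    rintro ⟨g, hg⟩
    induction hg using Subgroup.closure_induction with
    | mem g hg =>
      obtain ⟨a, b, hy⟩ := hg
      let a' : Fin T.tab.n := ⟨a.val, T.n_eq.symm ▸ a.isLt⟩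
      have : (⟨g, Subgroup.subset_closure ⟨a, b, hy⟩⟩ : ↥(D.group F)) = (T.rel K).x a' b := by
        refine Model.mat_inj ?_
        show (g : Matrix D.Idx D.Idx F) = D.x F a.val b
        rw [ChevalleyDatum.x, dif_pos a.isLt, hy]
      rw [this, hφx, hτ]
    | one => exact (map_one φ).trans (map_one τ).symm
    | mul a b ha hb h1 h2 =>
      rw [show (⟨a * b, mul_mem ha hb⟩ : ↥(D.group F)) = ⟨a, ha⟩ * ⟨b, hb⟩ from rfl, map_mul, map_mul, h1, h2]
    | inv a ha h1 =>
      rw [show (⟨a⁻¹, inv_mem ha⟩ : ↥(D.group F)) = ⟨a, ha⟩⁻¹ from rfl, map_inv, map_inv, h1]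
  have hpow : ∀ k : ℕ, ∀ g, (φ ^ k) g = mapGroup (σ ^ k).toRingHom g := by
    intro k
    induction k with
    | zero => intro g; exact Model.mat_inj (Matrix.ext fun a b => rfl)
    | succ k ih =>
      intro g
      rw [pow_succ', MulAut.mul_apply, ih, hφτ]
      exact Model.mat_inj (Matrix.ext fun a b => by
        show σ ((σ ^ k) _) = (σ ^ (k + 1)) _
        rw [pow_succ']; rfl)
  have hord : orderOf σ = r := by
    rw [← ho]
    apply Nat.dvd_antisymm <;> apply orderOf_dvd_of_pow_eq_one
    · refine RingEquiv.ext fun t => ?_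
      let a : Fin T.tab.n := ⟨0, T.n_eq.symm ▸ hn⟩
      have h1 := hpow (orderOf φ) ((T.rel K).x a t)
      rw [pow_orderOf_eq_one, mapGroup_x, MulAut.one_apply] at h1
      have h2 : (T.rel K).x a (((σ ^ orderOf φ).toRingHom t) - t) = 1 := by
        rw [sub_eq_add_neg, (T.rel K).x_add, ← h1, (T.rel K).x_neg, mul_inv_cancel]
      exact sub_eq_zero.1 (T.x_ne K a _ h2)
    · refine MulEquiv.ext fun g => ?_
      rw [hpow, pow_orderOf_eq_one]
      exact Model.mat_inj (Matrix.ext fun a b => rfl)
  have hred : T.S.Red w := red_of_suffix T.S w fun v i u he => by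
    have h := hw
    simp only [Model.longestB, Bool.and_eq_true, List.all_eq_true, List.mem_range] at h
    have := h.1 v.length (by rw [he]; simp)
    rw [he, List.drop_left] at this
    simpa using this
  have hfixed : ∀ g, φ g = g ↔ g ∈ fixGen (T.rel K) σ.toRingHom := fun g => by
    rw [hφτ]
    exact ⟨fun h => mem_fixGen_of_fixed (T.shapeR K) hτ (fun a b ha => T.pres_posList K hpos a b ha)
      hred (fun a ha => T.longest_neg hw a ha) (T.group_top K hwit)
      (fun _ hh hf => H_fixed T K hA hker σ.toRingHom hh hf) h, fun h => map_fixGen hτ h⟩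
  obtain ⟨p, hchar⟩ := CharP.exists F
  obtain ⟨f, hp, hcard⟩ := FiniteField.card F p
  haveI := Fact.mk hp
  obtain ⟨hrf, hfix⟩ := AutPSL.card_fixed_eq hord hp hcard f.2
  have hfr : f / r ≠ 0 := Nat.div_ne_zero_iff.2 ⟨hr.ne_zero, Nat.le_of_dvd f.2 hrf⟩
  letI : Fintype (GaloisField p (f / r)) := Fintype.ofFinite _
  have hc0 : Fintype.card (GaloisField p (f / r)) = p ^ (f / r : ℕ) := by
    rw [← Nat.card_eq_fintype_card]; exact GaloisField.card p _ hfr
  refine ⟨GaloisField p (f / r), inferInstance, inferInstance, ?_, ?_⟩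
  · rw [hc0, hcard, ← pow_mul, Nat.div_mul_cancel hrf]
  obtain ⟨i, hi⟩ := AutPSL.exists_fixed_embedding σ (GaloisField p (f / r)) (hc0.trans hfix.symm)
  have hrange : (mapGroup (D := D) i).range =
      (MulEquiv.toMonoidHom φ).eqLocus (MonoidHom.id ↥(D.group F)) := by
    apply le_antisymm
    · rintro _ ⟨g, rfl⟩
      show φ _ = _
      rw [hφτ]
      exact Model.mat_inj (Matrix.ext fun a b => (hi _).2 ⟨_, rfl⟩)
    · intro g hg
      have hle : fixGen (T.rel K) σ.toRingHom ≤ (mapGroup (D := D) i).range := by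
        refine (Subgroup.closure_le _).2 ?_
        rintro _ ⟨a, b, hb, rfl⟩
        obtain ⟨y, rfl⟩ := (hi b).1 hb
        refine ⟨⟨⟨D.x _ a.val y, D.x _ a.val (-y), ?_, ?_⟩, Subgroup.subset_closure
          ⟨⟨a.val, T.lt a⟩, y, by simp [ChevalleyDatum.x, T.lt a]⟩⟩, Model.mat_inj (x_map i a.val y)⟩
        all_goals
          apply Matrix.map_injective i.injective
          dsimp only
          rw [Matrix.map_mul, x_map, x_map, map_neg, ← K.x_add _ (T.lt a),
            Matrix.map_one _ (map_zero i) (map_one i)]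
          simp [K.x_zero _ (T.lt a)]
      exact hle ((hfixed g).1 hg)
  exact ⟨(MulEquiv.subgroupCongr hrange).symm.trans
    (MonoidHom.ofInjective (mapGroup_injective i)).symm⟩

end Cfsg.Agent.ChevFixed
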