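import Cfsg.Agent.ChevFixed.Field
import Cfsg.Agent.ChevGroup.Mat.Inst
import Cfsg.Agent.ChevGroup.Mat.Order
import Cfsg.Agent.ChevGroup.Mat.E8
import Cfsg.Agent.Lib.ChevCore.CommAll

/-!
Centralisers of field automorphisms of the Chevalley group of type E8 (helper60).
-/

set_option autoImplicit false

namespace Cfsg.Agent.ChevFixed.TypeE8

open Cfsg.Lie Cfsg.Agent.ChevGroup Cfsg.Agent.ChevGroup.TypeE8

set_option maxHeartbeats 1000000 in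
set_option maxRecDepth 20000 in
/-- The torus is split. -/
theorem card_torus {F : Type*} [Field F] [Fintype F] (hA : TorusFacts chevE8) (K : Rels chevE8 F) :
    Nat.card ↥(Cfsg.Lie.chevE8.diagonalSubgroup F) = (Fintype.card F - 1) ^ 8 := by
  have hH := model.card_H hA K wit_ok
    (U := (!![-1, 0, 0, 0, 0, 0, 0, 0; 0, -1, 0, 0, 0, 0, 0, 0; 1, -2, 0, -1, 0, 0, 0, 0; 2, -3, 0, -2, -1, 0, 0, 0; 3, -4, 0, -3, -2, -1, 0, 0; 4, -5, 0, -4, -3, -2, -1, 0; -2, 1, -1, 0, 0, 0, 0, 0; -3, -2, -4, -5, -4, -3, -2, -1] : Matrix (Fin 8) (Fin 8) ℤ)) (U' := (!![-1, 0, 0, 0, 0, 0, 0, 0; 0, -1, 0, 0, 0, 0, 0, 0; 2, -1, 0, 0, 0, 0, -1, 0; -1, 2, -1, 0, 0, 0, 0, 0; 0, -1, 2, -1, 0, 0, 0, 0; 0, 0, -1, 2, -1, 0, 0, 0; 0, 0, 0, -1, 2, -1, 0, 0; 0, 0, 0, 0, -1, 2, 4, -1] : Matrix (Fin 8) (Fin 8) ℤ))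
    (V := (!![0, 0, 0, 0, 0, 0, 1, -2; 0, 0, 0, 0, 0, 0, 2, -3; 1, 0, 0, 0, 0, 0, 2, -4; 0, 1, 0, 0, 0, 0, 4, -6; 0, 0, 1, 0, 0, 0, 4, -5; 0, 0, 0, 1, 0, 0, 4, -4; 0, 0, 0, 0, 1, 0, 4, -3; 0, 0, 0, 0, 0, 1, 4, -2] : Matrix (Fin 8) (Fin 8) ℤ)) (V' := (!![-2, 0, 1, 0, 0, 0, 0, 0; 0, -2, 0, 1, 0, 0, 0, 0; 2, -3, 0, 0, 1, 0, 0, 0; 4, -4, 0, 0, 0, 1, 0, 0; 6, -5, 0, 0, 0, 0, 1, 0; 8, -6, 0, 0, 0, 0, 0, 1; -3, 2, 0, 0, 0, 0, 0, 0; -2, 1, 0, 0, 0, 0, 0, 0] : Matrix (Fin 8) (Fin 8) ℤ))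
    (d := (![1, 1, 1, 1, 1, 1, 1, 1] : Fin 8 → ℕ))
    (by decide +kernel) (by decide +kernel) (by decide +kernel) (by decide +kernel)
  change _ * (∏ i : Fin 8, Nat.gcd (Fintype.card F - 1) _) = _ ^ 8 at hH
  simpa [Fin.prod_univ_succ, Nat.gcd_one_right] using hH

set_option maxRecDepth 20000 in
/-- Centralisers of field automorphisms of prime order. -/
theorem centralizer {F : Type*} [Field F] [Fintype F] (φ : MulAut ↥(chevE8.group F))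
    (hφ : chevE8.IsFieldAut φ) (r : ℕ) (hr : r.Prime) (ho : orderOf φ = r) :
    ∃ (F₀ : Type) (_ : Field F₀) (_ : Fintype F₀), Fintype.card F = Fintype.card F₀ ^ r ∧
      Nonempty (↥((MulEquiv.toMonoidHom φ).eqLocus (MonoidHom.id ↥(chevE8.group F))) ≃* ↥(chevE8.group F₀)) := by
  have hC : ChevCore.CommGood chevE8 := ChevCore.commGood_of_mem (by simp)
  have hA := torusFacts_of_good hC.toGood
  exact field_centralizer model (relsOfCommGood hC F) hA (by decide +kernel) wit_ok longest_ok pos_span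
    (torus_injective model (relsOfCommGood hC F) hA (card_torus hA (relsOfCommGood hC F))) φ hφ r hr ho

end Cfsg.Agent.ChevFixed.TypeE8
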